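import Groth.Agent.TorusQuotLib.Main
import Groth.Agent.AVThetaLib.Desc

/-!
The trivial group is a torus.
-/

set_option autoImplicit false
set_option linter.style.haveILetI false
set_option backward.isDefEq.respectTransparency false
set_option maxHeartbeats 2000000

noncomputable section

universe u

open CategoryTheory CategoryTheory.Limits MonoidalCategory CartesianMonoidalCategory AlgebraicGeometry
open scoped MonObj
open Groth.Agent CoactBr AVAmpleLib

attribute [-instance] CategoryTheory.Hom.commGroup

namespace AlbExLib

variable {k : Type u} [Field k]

local notation "pt₁" => 𝟙_ (Over (Spec (CommRingCat.of k)))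

/-- The trivial group is a torus. -/
theorem isTorus_unit [IsAlgClosed k] : Red.IsTorus pt₁ := by
  haveI : IsIso (toUnit (sp k k)) := by
    haveI : IsIso (toUnit (sp k k)).left := by
      rw [Over.toUnit_left]
      show IsIso (Spec.map (CommRingCat.ofHom (algebraMap k k)))
      haveI : IsIso (CommRingCat.ofHom (algebraMap k k)) :=
        (ConcreteCategory.isIso_iff_bijective _).2 Function.bijective_id
      infer_instance
    exact (isIso_iff_of_reflects_iso (toUnit (sp k k)) (Over.forget _)).1 ‹_›
  let v : sp k k ≅ pt₁ := asIso (toUnit (sp k k))
  haveI : IsMonHom v.inv := AVThetaLib.isMonHom_of_mul _ fun T x y => by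
    rw [← cancel_mono v.hom]
    exact toUnit_unique _ _
  refine SemiAbLib.isTorus_of_diag v ((Submodule.eq_top_iff').2 fun x => ?_)
  have h1 : (1 : k) ∈ {a : k | IsGroupLikeElem k a} := IsGroupLikeElem.one
  simpa using Submodule.smul_mem _ x (Submodule.subset_span (R := k) h1)

end AlbExLib

end
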