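import Groth.Agent.AlbExLib.ProperGen
import Groth.Agent.AlbExLib.TorusUnit
import Groth.Agent.AVAmpleLib.Translate
import Groth.Agent.AVAmpleLib.HomDiv
import Groth.Agent.SubDescLib.Main
import Groth.Agent.SemiAbLib.OverField
import Groth.Prelude.Def_ConstGrp
import Mathlib.RingTheory.Etale.Pi

/-!
Separating elements of a group by finite constant groups, and the union of the translates
of an open subgroup by the powers of a point.
-/

set_option autoImplicit false
set_option linter.style.haveILetI false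
set_option backward.isDefEq.respectTransparency false
set_option maxHeartbeats 1000000

noncomputable section

universe u

open CategoryTheory CategoryTheory.Limits MonoidalCategory CartesianMonoidalCategory AlgebraicGeometry
open scoped MonObj
open Groth.Agent AVAmpleLib

namespace AlbExLib

variable {k : Type u} [Field k]

theorem hom_comm {A T : Over (Spec (CommRingCat.of k))} [GrpObj A] [IsCommMonObj A] (x y : T ⟶ A) :
    x * y = y * x := mul_comm x y

attribute [-instance] CategoryTheory.Hom.commGroup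

local notation "pt₁" => 𝟙_ (Over (Spec (CommRingCat.of k)))

theorem subsingleton_hom_unit (T : Over (Spec (CommRingCat.of k))) : Subsingleton (T ⟶ pt₁) :=
  ⟨fun a b => toUnit_unique a b⟩

theorem isMonHom_toUnit (G : Over (Spec (CommRingCat.of k))) [GrpObj G] : IsMonHom (toUnit G) :=
  AVThetaLib.isMonHom_of_mul _ fun T x y => (subsingleton_hom_unit T).elim _ _

theorem isMonHom_one (G : Over (Spec (CommRingCat.of k))) [GrpObj G] : IsMonHom η[G] :=
  AVThetaLib.isMonHom_of_mul _ fun T x y => by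
    haveI := subsingleton_hom_unit T
    rw [Subsingleton.elim (x * y) (toUnit T), Subsingleton.elim x (toUnit T), Subsingleton.elim y (toUnit T),
      ← Hom.one_def, _root_.mul_one]

/-- A finite constant group contains an element none of whose `d`-th power is trivial. -/
theorem exists_finite_sep (d : ℕ) (hd : d ≠ 0) :
    ∃ (K : Over (Spec (CommRingCat.of k))) (_ : GrpObj K) (ζ : pt₁ ⟶ K), IsCommMonObj K ∧ IsFinite K.hom ∧
      Etale K.hom ∧ ζ ^ d ≠ 1 := by
  classical
  let M : Type := Multiplicative (ZMod (d + 1))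
  let R : Type u := ConstGrp.F k M
  let K : Over (Spec (CommRingCat.of k)) := (Spec (CommRingCat.of R)).asOver (Spec (CommRingCat.of k))
  haveI : Algebra.Etale k R := inferInstanceAs (Algebra.Etale k (M → k))
  haveI : Module.Finite k R := ConstGrp.instFinite k M
  haveI : IsFinite K.hom :=
    (IsFinite.SpecMap_iff _).2 (RingHom.finite_algebraMap.2 (inferInstanceAs (Module.Finite k R)))
  haveI : Etale K.hom :=
    (HasRingHomProperty.Spec_iff (P := @Etale)).2 (RingHom.etale_algebraMap.2 (inferInstanceAs (Algebra.Etale k R)))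
  -- evaluation is multiplicative
  let χ : M → WithConv (R →ₐ[k] k) := fun g => WithConv.toConv (ConstGrp.ev k g)
  have hχ1 : χ 1 = 1 := by
    apply WithConv.ofConv_injective
    rw [AlgHom.convOne_def, WithConv.ofConv_toConv, WithConv.ofConv_toConv, ConstGrp.counitAlgHom_eq]
    rfl
  have hχ : ∀ g h : M, χ (g * h) = χ g * χ h := by
    intro g h
    apply WithConv.ofConv_injective
    refine ConstGrp.algHom_ext fun c => ?_
    rw [AlgHom.convMul_def]
    simp only [χ, R, WithConv.ofConv_toConv, AlgHom.comp_apply]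
    rw [ConstGrp.comulAlgHom_eq, ConstGrp.comulAlg_e]
    simp [ConstGrp.e_apply, Finset.sum_ite_eq', eq_inv_mul_iff_mul_eq, eq_comm]
    refine ((Finset.sum_eq_single g (fun x _ hx => by simp [Ne.symm hx]) (fun h => absurd (Finset.mem_univ g) h)).trans ?_).symm
    simp
  have hinj : Function.Injective χ := by
    intro g h hgh
    have := congr(($hgh).ofConv (ConstGrp.e k g))
    change ConstGrp.e k g g = ConstGrp.e k g h at this
    by_contra hne
    simp [ConstGrp.e_apply, Ne.symm hne] at this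
  let ψ : M →* WithConv (R →ₐ[k] k) := { toFun := χ, map_one' := hχ1, map_mul' := hχ }
  let c : M := Multiplicative.ofAdd 1
  have hc : c ^ d ≠ 1 := by
    intro h
    have h' : ((d : ℕ) : ZMod (d + 1)) = 0 := by
      have : Multiplicative.toAdd (c ^ d) = Multiplicative.toAdd (1 : M) := by rw [h]
      rwa [toAdd_pow, toAdd_ofAdd, toAdd_one, nsmul_eq_mul, _root_.mul_one] at this
    rw [ZMod.natCast_eq_zero_iff] at h'
    exact absurd (Nat.le_of_dvd (Nat.pos_of_ne_zero hd) h') (by omega)
  have hψ : ψ c ^ d ≠ 1 := by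
    rw [← map_pow, ← ψ.map_one]
    exact fun h => hc (hinj h)
  let P : Over (Spec (CommRingCat.of k)) := (Spec (CommRingCat.of k)).asOver (Spec (CommRingCat.of k))
  haveI : IsIso (toUnit P) := by
    haveI : IsIso (toUnit P).left := by
      rw [Over.toUnit_left]
      show IsIso (Spec.map (CommRingCat.ofHom (algebraMap k k)))
      haveI : IsIso (CommRingCat.ofHom (algebraMap k k)) :=
        (ConcreteCategory.isIso_iff_bijective _).2 Function.bijective_id
      infer_instance
    exact (isIso_iff_of_reflects_iso (toUnit P) (Over.forget _)).1 ‹_›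
  let ζ : pt₁ ⟶ K := inv (toUnit P) ≫ Spec.mapMulEquiv (ψ c)
  refine ⟨K, inferInstance, ζ, inferInstance, ‹_›, ‹_›, fun h => hψ ?_⟩
  apply (Spec.mapMulEquiv (R := k) (S := R) (T := k)).injective
  rw [map_pow, map_one]
  have h' : toUnit P ≫ ζ ^ d = toUnit P ≫ 1 := congrArg (fun x => toUnit P ≫ x) h
  rw [MonObj.comp_pow, MonObj.comp_one] at h'
  simpa [ζ] using h'

theorem range_point {T : Over (Spec (CommRingCat.of k))} (t : pt₁ ⟶ T) :
    Set.range t.left.base = {t.left.base (IsLocalRing.closedPoint k)} := by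
  have : Subsingleton (pt₁).left := inferInstanceAs (Subsingleton (PrimeSpectrum k))
  refine Set.eq_singleton_iff_unique_mem.2 ⟨⟨_, rfl⟩, ?_⟩
  rintro _ ⟨y, rfl⟩
  exact congrArg _ (Subsingleton.elim _ _)

theorem exists_point_eq [IsAlgClosed k] {T : Over (Spec (CommRingCat.of k))} [LocallyOfFiniteType T.hom]
    (x : T.left) (hx : IsClosed ({x} : Set T.left)) :
    ∃ t : pt₁ ⟶ T, t.left.base (IsLocalRing.closedPoint k) = x :=
  ⟨Over.homMk (pointOfClosedPoint T.hom x hx) (pointOfClosedPoint_comp _ _ _), by simp⟩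

/-- A morphism factors through an open subscheme as soon as its rational points do. -/
theorem exists_lift_open [IsAlgClosed k] {T U A : Over (Spec (CommRingCat.of k))} [LocallyOfFiniteType T.hom]
    (j : U ⟶ A) [IsOpenImmersion j.left] (h : T ⟶ A) (hp : ∀ t : pt₁ ⟶ T, ∃ s : pt₁ ⟶ U, s ≫ j = t ≫ h) :
    ∃ l : T ⟶ U, l ≫ j = h := by
  haveI : JacobsonSpace T.left := LocallyOfFiniteType.jacobsonSpace T.hom
  have hr : Set.range h.left.base ⊆ Set.range j.left.base := by
    rintro _ ⟨x, rfl⟩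
    by_contra hx
    obtain ⟨y, hy, hyc⟩ := nonempty_inter_closedPoints (Z := (h.left.base ⁻¹' Set.range j.left.base)ᶜ) ⟨x, hx⟩
      (IsClosed.isLocallyClosed ((j.left.isOpenEmbedding.isOpen_range.preimage h.left.continuous).isClosed_compl))
    obtain ⟨t, ht⟩ := exists_point_eq y hyc
    obtain ⟨s, hs⟩ := hp t
    refine hy ⟨s.left.base (IsLocalRing.closedPoint k), ?_⟩
    rw [← ht]
    exact congr($(hs).left.base (IsLocalRing.closedPoint k))
  refine ⟨Over.homMk (IsOpenImmersion.lift j.left h.left hr) ?_, ?_⟩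
  · rw [← Over.w j, ← Category.assoc, IsOpenImmersion.lift_fac, Over.w]
  · exact Over.OverMorphism.ext (IsOpenImmersion.lift_fac _ _ _)

/-- The union of the translates of an open subgroup by the powers of a point is an open subgroup, and sending a
translate to the corresponding power is a homomorphism killing the subgroup. -/
theorem exists_pieces [IsAlgClosed k] {A A0 : Over (Spec (CommRingCat.of k))} [GrpObj A] [IsCommMonObj A]
    [IsSeparated A.hom] [LocallyOfFiniteType A.hom] [GrpObj A0] [Smooth A0.hom] (e : A0 ⟶ A) [IsMonHom e]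
    [IsOpenImmersion e.left] (a : pt₁ ⟶ A) (hd : ∀ (n : ℤ) (b : pt₁ ⟶ A0), b ≫ e = a ^ n → n = 0) :
    ∃ (U : Over (Spec (CommRingCat.of k))) (_ : GrpObj U) (j : U ⟶ A) (s : A0 ⟶ U) (π : U ⟶ A) (t : A0 ⟶ U),
      IsMonHom j ∧ IsOpenImmersion j.left ∧ s ≫ j = e ∧ IsMonHom s ∧ IsOpenImmersion s.left ∧ IsMonHom π ∧
      s ≫ π = 1 ∧ t ≫ j = e * (toUnit A0 ≫ a) ∧ t ≫ π = toUnit A0 ≫ a := by
  let p : ℤ → (pt₁ ⟶ A) := fun n => a ^ n
  let f : ULift.{u} ℤ → (A0 ⟶ A) := fun n => e ≫ tR (p n.down)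
  have hf : ∀ n, f n = e * (toUnit A0 ≫ p n.down) := fun n => by
    show e ≫ (𝟙 A * (toUnit A ≫ p n.down)) = _
    rw [MonObj.comp_mul, Category.comp_id, ← Category.assoc, toUnit_unique (e ≫ toUnit A) (toUnit A0)]
  have hfo : ∀ n, IsOpenImmersion (f n).left := fun n => by
    haveI : IsIso (tR (p n.down)).left := inferInstanceAs (IsIso ((Over.forget _).map (tR (p n.down))))
    show IsOpenImmersion (e.left ≫ (tR (p n.down)).left)
    infer_instance
  have hpt : ∀ (n : ULift.{u} ℤ) (b : pt₁ ⟶ A0), b ≫ f n = (b ≫ e) * p n.down := fun n b => by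
    rw [hf, MonObj.comp_mul, ← Category.assoc, show b ≫ toUnit A0 = 𝟙 _ from toUnit_unique _ _, Category.id_comp]
  haveI hA0 : LocallyOfFiniteType A0.hom := by rw [← Over.w e]; infer_instance
  haveI : JacobsonSpace A.left := LocallyOfFiniteType.jacobsonSpace A.hom
  have hdisj : Pairwise (Function.onFun Disjoint fun n => (f n).left.opensRange) := by
    intro m n hmn
    show Disjoint (f m).left.opensRange (f n).left.opensRange
    rw [disjoint_iff]
    by_contra hne
    have hne' : (((f m).left.opensRange ⊓ (f n).left.opensRange : A.left.Opens) : Set A.left).Nonempty := by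
      rw [Set.nonempty_iff_ne_empty]
      exact fun h => hne (TopologicalSpace.Opens.ext h)
    obtain ⟨y, ⟨hym, hyn⟩, hy⟩ := nonempty_inter_closedPoints hne'
      ((f m).left.opensRange ⊓ (f n).left.opensRange).2.isLocallyClosed
    obtain ⟨z, hz⟩ := exists_point_eq y hy
    have key : ∀ q : ULift.{u} ℤ, y ∈ (f q).left.opensRange → ∃ b : pt₁ ⟶ A0, z = (b ≫ e) * p q.down := by
      intro q hq
      haveI := hfo q
      have : Set.range z.left.base ⊆ Set.range (f q).left.base := by
        rw [range_point, hz]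
        exact Set.singleton_subset_iff.2 hq
      refine ⟨Over.homMk (IsOpenImmersion.lift (f q).left z.left this) ?_, ?_⟩
      · rw [← Over.w (f q), ← Category.assoc, IsOpenImmersion.lift_fac, Over.w]
      · rw [← hpt]
        exact Over.OverMorphism.ext (IsOpenImmersion.lift_fac _ _ _).symm
    obtain ⟨b, hb⟩ := key m hym
    obtain ⟨c, hc⟩ := key n hyn
    refine hmn (ULift.ext _ _ (sub_eq_zero.1 (hd (m.down - n.down) (b⁻¹ * c) ?_)))
    rw [MonObj.mul_comp, GrpObj.inv_comp, eq_comm, _root_.zpow_sub]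
    calc a ^ m.down * (a ^ n.down)⁻¹ = (b ≫ e)⁻¹ * ((b ≫ e) * p m.down) * (p n.down)⁻¹ := by
          rw [_root_.inv_mul_cancel_left]
      _ = (b ≫ e)⁻¹ * ((c ≫ e) * p n.down) * (p n.down)⁻¹ := by rw [← hb, hc]
      _ = (b ≫ e)⁻¹ * (c ≫ e) := by group
  let U : Over (Spec (CommRingCat.of k)) := Over.mk (Sigma.desc fun _ : ULift.{u} ℤ => A0.hom)
  let j : U ⟶ A := Over.homMk (Sigma.desc fun n => (f n).left) (Sigma.hom_ext _ _ fun n => by simp [U])
  let s : ULift.{u} ℤ → (A0 ⟶ U) := fun n => Over.homMk (Sigma.ι (fun _ : ULift.{u} ℤ => A0.left) n) (by simp [U])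
  let π : U ⟶ A := Over.homMk (Sigma.desc fun n => (toUnit A0 ≫ p n.down).left)
    (Sigma.hom_ext _ _ fun n => by simp [U])
  have hsj : ∀ n, s n ≫ j = f n := fun n => Over.OverMorphism.ext (by simp [s, j])
  have hsπ : ∀ n, s n ≫ π = toUnit A0 ≫ p n.down := fun n => Over.OverMorphism.ext (by simp [s, π])
  haveI hj : IsOpenImmersion j.left := by
    haveI := hfo
    exact isOpenImmersion_sigmaDesc _ _ fun m n hmn => by
      have h : (f m).left.opensRange ⊓ (f n).left.opensRange = ⊥ := disjoint_iff.1 (hdisj hmn)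
      exact Set.disjoint_iff_inter_eq_empty.2 congr(SetLike.coe $h)
  haveI : Mono j := Over.mono_of_mono_left j
  haveI hso : ∀ n, IsOpenImmersion (s n).left := fun n =>
    inferInstanceAs (IsOpenImmersion (Sigma.ι (fun _ : ULift.{u} ℤ => A0.left) n))
  haveI : LocallyOfFiniteType U.hom := by rw [← Over.w j]; infer_instance
  haveI : Smooth U.hom :=
    (IsZariskiLocalAtSource.iff_of_openCover (P := @Smooth) (sigmaOpenCover _)).2 fun n => by
      show Smooth (Sigma.ι (fun _ : ULift.{u} ℤ => A0.left) n ≫ Sigma.desc fun _ : ULift.{u} ℤ => A0.hom)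
      rw [Sigma.ι_desc]
      infer_instance
  -- a rational point lies in one piece
  have hpiece : ∀ z : pt₁ ⟶ U, ∃ (n : ℤ) (b : pt₁ ⟶ A0), z ≫ j = (b ≫ e) * a ^ n ∧ z ≫ π = a ^ n := by
    intro z
    obtain ⟨n, w, hw⟩ : ∃ (n : ULift.{u} ℤ) (w : A0.left),
        (Sigma.ι (fun _ : ULift.{u} ℤ => A0.left) n).base w = z.left.base (IsLocalRing.closedPoint k) := by
      obtain ⟨n, w, hw⟩ := (sigmaOpenCover (fun _ : ULift.{u} ℤ => A0.left)).exists_eq
        (z.left.base (IsLocalRing.closedPoint k))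
      exact ⟨n, w, hw⟩
    haveI := hso n
    have hr : Set.range z.left.base ⊆ Set.range (s n).left.base := by
      rw [range_point]
      exact Set.singleton_subset_iff.2 ⟨w, hw⟩
    let b : pt₁ ⟶ A0 := Over.homMk (IsOpenImmersion.lift (s n).left z.left hr)
      (by rw [← Over.w (s n), ← Category.assoc, IsOpenImmersion.lift_fac, Over.w])
    have hb : b ≫ s n = z := Over.OverMorphism.ext (IsOpenImmersion.lift_fac _ _ _)
    refine ⟨n.down, b, ?_, ?_⟩
    · rw [← hb, Category.assoc, hsj, hpt]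
    · rw [← hb, Category.assoc, hsπ, ← Category.assoc, show b ≫ toUnit A0 = 𝟙 _ from toUnit_unique _ _,
        Category.id_comp]
  have hback : ∀ (n : ℤ) (b : pt₁ ⟶ A0), ∃ z : pt₁ ⟶ U, z ≫ j = (b ≫ e) * a ^ n ∧ z ≫ π = a ^ n := fun n b => by
    refine ⟨b ≫ s ⟨n⟩, by rw [Category.assoc, hsj, hpt], ?_⟩
    rw [Category.assoc, hsπ, ← Category.assoc, show b ≫ toUnit A0 = 𝟙 _ from toUnit_unique _ _, Category.id_comp]
  have hmul : ∀ (b c : pt₁ ⟶ A0) (m n : ℤ),
      (b ≫ e) * a ^ m * ((c ≫ e) * a ^ n) = ((b * c) ≫ e) * a ^ (m + n) := fun b c m n => by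
    rw [MonObj.mul_comp, _root_.zpow_add, _root_.mul_assoc, ← _root_.mul_assoc (a ^ m), hom_comm (a ^ m) (c ≫ e)]
    simp only [_root_.mul_assoc]
  haveI : LocallyOfFiniteType (U ⊗ U).hom := by rw [Over.tensorObj_hom]; infer_instance
  obtain ⟨g, hjm⟩ : ∃ _ : GrpObj U, IsMonHom j := by
    refine SubDesc.exists_grpObj_of_mono j ?_ ?_ ?_
    · refine exists_lift_open j _ fun t => ?_
      obtain ⟨m, b, hb, -⟩ := hpiece (t ≫ fst U U)
      obtain ⟨n, c, hc, -⟩ := hpiece (t ≫ snd U U)
      obtain ⟨z, hz, -⟩ := hback (m + n) (b * c)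
      refine ⟨z, ?_⟩
      rw [hz, MonObj.comp_mul, ← Category.assoc t (fst U U), hb, ← Category.assoc t (snd U U), hc, hmul]
    · obtain ⟨z, hz, -⟩ := hback 0 1
      exact ⟨z, by rw [hz, MonObj.one_comp, _root_.one_mul, _root_.zpow_zero]⟩
    · refine exists_lift_open j _ fun t => ?_
      obtain ⟨n, b, hb, -⟩ := hpiece t
      obtain ⟨z, hz, -⟩ := hback (-n) b⁻¹
      refine ⟨z, ?_⟩
      rw [hz, GrpObj.comp_inv, hb, GrpObj.inv_comp, _root_.mul_inv_rev, _root_.zpow_neg, hom_comm]
  letI := g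
  haveI := hjm
  have hπmul : μ[U] ≫ π = (fst U U ≫ π) * (snd U U ≫ π) := by
    haveI : Smooth (U ⊗ U).hom := by rw [Over.tensorObj_hom]; infer_instance
    haveI : IsReduced (U ⊗ U).left := by
      haveI : IsReduced (Spec (CommRingCat.of k)) := inferInstance
      exact AlgSpLib.isReduced_of_smooth (U ⊗ U).hom
    refine AVAmpleLib.hom_ext_of_points _ _ fun t => ?_
    obtain ⟨m, b, hb, hbπ⟩ := hpiece (t ≫ fst U U)
    obtain ⟨n, c, hc, hcπ⟩ := hpiece (t ≫ snd U U)
    obtain ⟨z, hz, hzπ⟩ := hback (m + n) (b * c)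
    have h1 : t ≫ μ[U] = z := by
      rw [← cancel_mono j, hz, ← hmul, ← hb, ← hc, ← MonObj.mul_comp, Hom.mul_def, lift_comp_fst_snd]
    rw [← Category.assoc, h1, hzπ, MonObj.comp_mul, ← Category.assoc t (fst U U), hbπ,
      ← Category.assoc t (snd U U), hcπ, _root_.zpow_add]
  haveI hπ : IsMonHom π := AVThetaLib.isMonHom_of_mul π fun T x y => by
    rw [Hom.mul_def, Category.assoc, hπmul, MonObj.comp_mul, lift_fst_assoc, lift_snd_assoc]
  have h0 : s ⟨0⟩ ≫ j = e := by
    rw [hsj, hf]; simp [p]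
  haveI hsm : IsMonHom (s ⟨0⟩) := AVThetaLib.isMonHom_of_mul _ fun T x y => by
    rw [← cancel_mono j]
    simp only [MonObj.mul_comp, Category.assoc, h0]
  refine ⟨U, g, j, s ⟨0⟩, π, s ⟨1⟩, hjm, hj, h0, hsm, hso _, hπ, ?_, ?_, ?_⟩
  · rw [hsπ]; simp [p]
  · rw [hsj, hf]; simp [p]
  · rw [hsπ]; simp [p]

/-- An open subgroup is closed. -/
theorem isClosed_range_open [IsAlgClosed k] {A A0 : Over (Spec (CommRingCat.of k))} [GrpObj A]
    [LocallyOfFiniteType A.hom] [GrpObj A0] (e : A0 ⟶ A) [IsMonHom e] [IsOpenImmersion e.left] :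
    IsClosed (Set.range e.left.base) := by
  haveI : JacobsonSpace A.left := LocallyOfFiniteType.jacobsonSpace A.hom
  let f : (pt₁ ⟶ A) → (A0 ⟶ A) := fun z => e ≫ tR z
  have hf : ∀ z (b : pt₁ ⟶ A0), b ≫ f z = (b ≫ e) * z := fun z b => by
    show b ≫ e ≫ tR z = _
    rw [← Category.assoc, AVAmpleLib.point_tR]
  have hfo : ∀ z, IsOpenImmersion (f z).left := fun z => by
    haveI : IsIso (tR z).left := inferInstanceAs (IsIso ((Over.forget _).map (tR z)))
    show IsOpenImmersion (e.left ≫ (tR z).left)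
    infer_instance
  rw [← isOpen_compl_iff, isOpen_iff_forall_mem_open]
  intro x hx
  have hR : IsOpen (Set.range e.left.base) := e.left.isOpenEmbedding.isOpen_range
  obtain ⟨y, hy, hyc⟩ := nonempty_inter_closedPoints (Z := closure {x}) ⟨x, subset_closure rfl⟩
    isClosed_closure.isLocallyClosed
  have hyn : y ∉ Set.range e.left.base := fun h =>
    hx ((specializes_iff_mem_closure.2 hy).mem_open hR h)
  obtain ⟨z, hz⟩ := exists_point_eq y hyc
  haveI := hfo z
  have hO : IsOpen (Set.range (f z).left.base) := (f z).left.isOpenEmbedding.isOpen_range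
  have hlift : ∀ (g : A0 ⟶ A) [IsOpenImmersion g.left] (t : pt₁ ⟶ A),
      t.left.base (IsLocalRing.closedPoint k) ∈ Set.range g.left.base → ∃ b : pt₁ ⟶ A0, b ≫ g = t := by
    intro g _ t ht
    have hr : Set.range t.left.base ⊆ Set.range g.left.base := by
      rw [range_point]; exact Set.singleton_subset_iff.2 ht
    exact ⟨Over.homMk (IsOpenImmersion.lift g.left t.left hr)
      (by rw [← Over.w g, ← Category.assoc, IsOpenImmersion.lift_fac, Over.w]),
      Over.OverMorphism.ext (IsOpenImmersion.lift_fac _ _ _)⟩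
  refine ⟨Set.range (f z).left.base, ?_, hO, (specializes_iff_mem_closure.2 hy).mem_open hO ?_⟩
  · intro w hw hwe
    obtain ⟨v, ⟨hv1, hv2⟩, hvc⟩ := nonempty_inter_closedPoints (Z := Set.range (f z).left.base ∩ Set.range e.left.base)
      ⟨w, hw, hwe⟩ (hO.inter hR).isLocallyClosed
    obtain ⟨t, ht⟩ := exists_point_eq v hvc
    obtain ⟨b, hb⟩ := hlift (f z) t (ht ▸ hv1)
    obtain ⟨c, hc⟩ := hlift e t (ht ▸ hv2)
    refine hyn ⟨(b⁻¹ * c).left.base (IsLocalRing.closedPoint k), ?_⟩
    have h : (b⁻¹ * c) ≫ e = z := by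
      rw [MonObj.mul_comp, GrpObj.inv_comp, hc, ← hb, hf, _root_.inv_mul_cancel_left]
    rw [← hz]
    exact congr($(h).left.base (IsLocalRing.closedPoint k))
  · refine ⟨(1 : pt₁ ⟶ A0).left.base (IsLocalRing.closedPoint k), ?_⟩
    have h : (1 : pt₁ ⟶ A0) ≫ f z = z := by rw [hf, MonObj.one_comp, _root_.one_mul]
    rw [← hz]
    exact congr($(h).left.base (IsLocalRing.closedPoint k))

/-- Words in a proper scheme form a proper scheme. -/
theorem isProper_word {X : Over (Spec (CommRingCat.of k))} [IsProper X.hom] :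
    ∀ l : List Bool, IsProper (Groth.Agent.GenSub.Word X l).hom
  | [] => inferInstanceAs (IsProper (𝟙 (Spec (CommRingCat.of k))))
  | b :: l => by
    haveI := isProper_word (X := X) l
    haveI : IsProper (pullback.fst X.hom (Groth.Agent.GenSub.Word X l).hom) :=
      MorphismProperty.pullback_fst _ _ inferInstance
    show IsProper (pullback.fst X.hom (Groth.Agent.GenSub.Word X l).hom ≫ X.hom)
    infer_instance

end AlbExLib

end
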