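import Groth.Agent.AlbExLib.ProperBound

/-!
# The Albanese variety of a proper scheme without nonconstant functions
-/

set_option autoImplicit false
set_option linter.style.haveILetI false
set_option linter.unusedSectionVars false
set_option backward.isDefEq.respectTransparency false
set_option maxHeartbeats 1600000

universe u

open CategoryTheory CategoryTheory.Limits AlgebraicGeometry TopologicalSpace MonoidalCategory CartesianMonoidalCategory
open Groth.Agent.GenSub (Word word wordSet)
open scoped MonObj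

attribute [-instance] CategoryTheory.Hom.commGroup

noncomputable section

namespace AlbExLib

variable {K : Type u} [Field K]

/-- Homomorphisms agreeing on a morphism with dense words are equal. -/
theorem eq_of_dense_words (V : Over (Spec (CommRingCat.of K))) {A B : Over (Spec (CommRingCat.of K))} [GrpObj A]
    [GeometricallyIntegral A.hom] [GrpObj B] [IsSeparated B.hom] (f : V ⟶ A)
    (hd : Dense (wordSet f)) (φ ψ : A ⟶ B) [IsMonHom φ] [IsMonHom ψ] (h : f ≫ φ = f ≫ ψ) : φ = ψ := by
  haveI : IsIntegral A.left := GeometricallyIntegral.isIntegral_of_subsingleton A.hom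
  refine Groth.Agent.GenSub.hom_ext_of_dense (fun l : ULift.{u} (List Bool) => word f l.down) hd _ _ fun l => ?_
  rw [word_comp, word_comp, h]

theorem exists_dim_bound' (V : Over (Spec (CommRingCat.of K))) [IsProper V.hom] [GeometricallyConnected V.hom]
    (v₀ : 𝟙_ (Over (Spec (CommRingCat.of K))) ⟶ V) :
    ∃ N : ℕ, ∀ (B : Over (Spec (CommRingCat.of K))) [GrpObj B] [IsProper B.hom] [GeometricallyIntegral B.hom] (g : V ⟶ B),
      v₀ ≫ g = η[B] → Dense (Groth.Agent.GenSub.wordSet g) → topologicalKrullDim B.left ≤ (N : WithBot ℕ∞) := by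
  let L := AlgebraicClosure K
  let σ := Spec.map (CommRingCat.ofHom (algebraMap K L))
  let F := Over.pullback σ
  haveI : IsProper (F.obj V).hom := MorphismProperty.pullback_snd V.hom σ inferInstance
  haveI : GeometricallyConnected (F.obj V).hom := MorphismProperty.pullback_snd V.hom σ inferInstance
  haveI : Subsingleton ↥(Spec (CommRingCat.of L)) := inferInstanceAs (Subsingleton (PrimeSpectrum L))
  haveI : ConnectedSpace (F.obj V).left :=
    GeometricallyConnected.connectedSpace_of_subsingleton (f := (F.obj V).hom)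
  obtain ⟨J, gJ, hJp, hJi, hcov⟩ := exists_cover_proper (F.obj V) (Functor.LaxMonoidal.ε F ≫ F.map v₀)
  letI := gJ
  haveI := hJp; haveI := hJi
  haveI : IsIntegral J.left := GeometricallyIntegral.isIntegral_of_subsingleton J.hom
  obtain ⟨N, hN⟩ := LichtLib.exists_dim J.hom
  refine ⟨N, fun B _ _ _ g hg hd => ?_⟩
  haveI : IsProper (F.obj B).hom := MorphismProperty.pullback_snd B.hom σ inferInstance
  haveI : GeometricallyIntegral (F.obj B).hom := MorphismProperty.pullback_snd B.hom σ inferInstance
  have hη : (Functor.LaxMonoidal.ε F ≫ F.map v₀) ≫ F.map g = η[F.obj B] := by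
    rw [Category.assoc, ← F.map_comp, hg]
    rfl
  have hd' : Dense (Groth.Agent.GenSub.wordSet (F.map g)) := by
    haveI : UniversallyOpen σ := inferInstance
    haveI : UniversallyOpen (pullback.fst B.hom σ) := MorphismProperty.pullback_fst B.hom σ inferInstance
    refine (hd.preimage (pullback.fst B.hom σ).isOpenMap).mono ?_
    intro y hy
    obtain ⟨l, hl⟩ := Set.mem_iUnion.1 hy
    obtain ⟨x, hx⟩ := Groth.Agent.GenSub.mem_range_bc σ _ y hl
    obtain ⟨-, p, hp⟩ := Groth.Agent.GenSub.exists_word_bc σ g l.down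
    exact Set.mem_iUnion.2 ⟨l, p.left.base x, (congr($(hp).left.base x)).trans hx⟩
  obtain ⟨χ, hχ, hsurj⟩ := hcov (F.obj B) (F.map g) hη hd'
  haveI : LocallyOfFiniteType χ.left := by
    haveI : LocallyOfFiniteType (χ.left ≫ (F.obj B).hom) := by rw [Over.w χ]; infer_instance
    exact locallyOfFiniteType_of_comp χ.left (F.obj B).hom
  calc topologicalKrullDim B.left = topologicalKrullDim (F.obj B).left :=
        (FibDimLib.topologicalKrullDim_pullback_field K L B.hom).symm
    _ ≤ topologicalKrullDim J.left := DimNoetherLib.dim_le_of_surjective (F.obj B).hom χ.left hsurj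
    _ = N := hN


/-- A generated abelian variety is covered by one word. -/
theorem exists_word_surjective' (V : Over (Spec (CommRingCat.of K))) [IsProper V.hom]
    [GeometricallyConnected V.hom]
    (v₀ : 𝟙_ (Over (Spec (CommRingCat.of K))) ⟶ V) (B : Over (Spec (CommRingCat.of K))) [GrpObj B] [IsProper B.hom]
    (g : V ⟶ B) (hg : v₀ ≫ g = η[B]) (hd : Dense (wordSet g)) :
    ∃ l : List Bool, Surjective (word g l).left := by
  let L := AlgebraicClosure K
  let σ := Spec.map (CommRingCat.ofHom (algebraMap K L))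
  let F := Over.pullback σ
  haveI : IsProper (F.obj B).hom := MorphismProperty.pullback_snd B.hom σ inferInstance
  haveI : QuasiCompact (F.obj V).hom := MorphismProperty.pullback_snd V.hom σ inferInstance
  haveI : IsProper (F.obj V).hom := MorphismProperty.pullback_snd V.hom σ inferInstance
  haveI : GeometricallyConnected (F.obj V).hom := MorphismProperty.pullback_snd V.hom σ inferInstance
  haveI : Subsingleton ↥(Spec (CommRingCat.of L)) := inferInstanceAs (Subsingleton (PrimeSpectrum L))
  haveI : ConnectedSpace (F.obj V).left :=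
    GeometricallyConnected.connectedSpace_of_subsingleton (f := (F.obj V).hom)
  have hd' : Dense (wordSet (F.map g)) := by
    haveI : UniversallyOpen (pullback.fst B.hom σ) := MorphismProperty.pullback_fst B.hom σ inferInstance
    refine (hd.preimage (pullback.fst B.hom σ).isOpenMap).mono ?_
    intro y hy
    obtain ⟨l, hl⟩ := Set.mem_iUnion.1 hy
    obtain ⟨x, hx⟩ := Groth.Agent.GenSub.mem_range_bc σ _ y hl
    obtain ⟨-, p, hp⟩ := Groth.Agent.GenSub.exists_word_bc σ g l.down
    exact Set.mem_iUnion.2 ⟨l, p.left.base x, (congr($(hp).left.base x)).trans hx⟩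
  haveI : IsClosedImmersion (𝟙 (F.obj B) : F.obj B ⟶ F.obj B).left := by
    rw [Over.id_left]; infer_instance
  have h1 : (Functor.LaxMonoidal.ε F ≫ F.map v₀) ≫ F.map g = 1 := by
    rw [Category.assoc, ← F.map_comp, hg, Hom.one_def]
    have : toUnit (𝟙_ (Over (Spec (CommRingCat.of L)))) = 𝟙 _ := Subsingleton.elim _ _
    rw [this, Category.id_comp]
    rfl
  obtain ⟨l, hl⟩ := Groth.Agent.GenSub.exists_surjective_word (F.map g) (𝟙 (F.obj B))
    (by rw [Over.id_left, hd'.closure_eq]; exact Set.range_id)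
    (fun l => ⟨word (F.map g) l, Category.comp_id _⟩) fun x => ⟨_, h1, by
      rw [PreconnectedSpace.connectedComponent_eq_univ]; trivial⟩
  refine ⟨l, ⟨fun y => ?_⟩⟩
  haveI : Surjective σ := ⟨fun z => ⟨IsLocalRing.closedPoint L, Subsingleton.elim (α := PrimeSpectrum K) _ _⟩⟩
  haveI : Surjective (pullback.fst B.hom σ) := MorphismProperty.pullback_fst B.hom σ inferInstance
  obtain ⟨y', rfl⟩ := (pullback.fst B.hom σ).surjective y
  obtain ⟨x, hx⟩ := hl ⟨y', rfl⟩
  obtain ⟨⟨e, he⟩, -⟩ := Groth.Agent.GenSub.exists_word_bc σ g l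
  refine ⟨pullback.fst (Word V l).hom σ (e.left x), ?_⟩
  have h2 : ((F.map (word g l)).left ≫ pullback.fst B.hom σ) = pullback.fst (Word V l).hom σ ≫ (word g l).left := by
    simp [F, Over.pullback_map_left]
  rw [← Scheme.Hom.comp_apply, ← h2, Scheme.Hom.comp_apply]
  have h3 : (F.map (word g l)).left (e.left x) = y' := by
    have h4 := congrArg (fun a => a.left x) he
    simp only [Over.comp_left, Scheme.Hom.comp_apply] at h4
    exact h4.trans hx
  exact congrArg _ h3

/-- **The Albanese variety**: a generating pointed morphism of maximal dimension and degree is universal. -/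
theorem exists_albanese_proper (V : Over (Spec (CommRingCat.of K))) [IsProper V.hom]
    (h0 : Function.Bijective (V.hom.appTop).hom) (v₀ : 𝟙_ (Over (Spec (CommRingCat.of K))) ⟶ V) :
    ∃ (A : Over (Spec (CommRingCat.of K))) (_ : GrpObj A) (f : V ⟶ A), IsProper A.hom ∧ GeometricallyIntegral A.hom ∧
      v₀ ≫ f = η[A] ∧
      ∀ (B : Over (Spec (CommRingCat.of K))) [GrpObj B] [IsProper B.hom] [GeometricallyIntegral B.hom] (g : V ⟶ B),
        v₀ ≫ g = η[B] → ∃! h : A ⟶ B, IsMonHom h ∧ f ≫ h = g := by
  classical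
  haveI : GeometricallyConnected V.hom := geometricallyConnected_of_h0' V h0
  obtain ⟨N, hN⟩ := exists_dim_bound' V v₀
  -- the largest dimension of a generated abelian variety
  let P : ℕ → Prop := fun n => ∃ (B : Over (Spec (CommRingCat.of K))) (_ : GrpObj B) (g : V ⟶ B),
    IsProper B.hom ∧ GeometricallyIntegral B.hom ∧ v₀ ≫ g = η[B] ∧ Dense (wordSet g) ∧
      topologicalKrullDim B.left = (n : WithBot ℕ∞)
  have hbd : ∀ n, P n → n ≤ N := fun n ⟨B, gB, g, hp, hi, hg, hd, hn⟩ => by
    letI := gB
    haveI := hp; haveI := hi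
    have := hN B g hg hd
    rw [hn] at this
    exact_mod_cast this
  have hP : ∃ n, P n := by
    haveI : IsProper (𝟙_ (Over (Spec (CommRingCat.of K)))).hom :=
      inferInstanceAs (IsProper (𝟙 (Spec (CommRingCat.of K))))
    haveI : GeometricallyReduced (𝟙_ (Over (Spec (CommRingCat.of K)))).hom := Groth.Agent.GenSub.gr_unit
    haveI : ConnectedSpace (𝟙_ (Over (Spec (CommRingCat.of K)))).left :=
      inferInstanceAs (ConnectedSpace ↥(Spec (CommRingCat.of K)))
    haveI : LocallyOfFiniteType (𝟙_ (Over (Spec (CommRingCat.of K)))).hom :=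
      inferInstanceAs (LocallyOfFiniteType (𝟙 (Spec (CommRingCat.of K))))
    haveI : GeometricallyIntegral (𝟙_ (Over (Spec (CommRingCat.of K)))).hom :=
      AlbLib.geometricallyIntegral_of_reduced_connected _
    obtain ⟨C, gC, i, g', -, -, hp, hi, -, hg', hd⟩ := exists_gen' V h0 v₀ (𝟙_ _) (toUnit V) (Subsingleton.elim _ _)
    letI := gC
    haveI := hp; haveI := hi
    haveI : IsIntegral C.left := GeometricallyIntegral.isIntegral_of_subsingleton C.hom
    obtain ⟨n, hn⟩ := LichtLib.exists_dim C.hom
    exact ⟨n, C, gC, g', hp, hi, hg', hd, hn⟩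
  obtain ⟨n₀, hn₀⟩ := hP
  let d := Nat.findGreatest P N
  obtain ⟨A₀, gA₀, f₀, hA₀p, hA₀i, hf₀, hd₀, hdim₀⟩ : P d := Nat.findGreatest_spec (hbd n₀ hn₀) hn₀
  have hmax : ∀ n, P n → n ≤ d := fun n hn => Nat.le_findGreatest (hbd n hn) hn
  letI := gA₀
  haveI := hA₀p; haveI := hA₀i
  haveI : IsIntegral A₀.left := GeometricallyIntegral.isIntegral_of_subsingleton A₀.hom
  haveI : IsLocallyNoetherian A₀.left := LocallyOfFiniteType.isLocallyNoetherian A₀.hom
  -- the finite lifts and their degrees
  let R : ℕ → Prop := fun m => ∃ (A : Over (Spec (CommRingCat.of K))) (_ : GrpObj A) (_ : IsIntegral A.left)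
    (f : V ⟶ A) (π : A ⟶ A₀),
    IsProper A.hom ∧ GeometricallyIntegral A.hom ∧ v₀ ≫ f = η[A] ∧ Dense (wordSet f) ∧ IsMonHom π ∧ f ≫ π = f₀ ∧
      π.left.residueDegree (genericPoint A.left) = m
  have hlift : ∀ (A : Over (Spec (CommRingCat.of K))) [GrpObj A] [IsProper A.hom] [GeometricallyIntegral A.hom]
      (f : V ⟶ A) (A' : Over (Spec (CommRingCat.of K))) [GrpObj A'] [IsProper A'.hom] [GeometricallyIntegral A'.hom]
      (π : A ⟶ A') [IsMonHom π],
      v₀ ≫ f = η[A] → Dense (wordSet f) → Dense (wordSet (f ≫ π)) →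
      topologicalKrullDim A'.left = (d : WithBot ℕ∞) →
      Surjective π.left ∧ IsFinite π.left ∧ Flat π.left ∧ topologicalKrullDim A.left = (d : WithBot ℕ∞) := by
    intro A _ _ _ f A' _ _ _ π _ hf hd hd' hA'
    have hs := surjective_of_dense f π hd'
    haveI : IsIntegral A.left := GeometricallyIntegral.isIntegral_of_subsingleton A.hom
    obtain ⟨n, hn⟩ := LichtLib.exists_dim A.hom
    have hle : n ≤ d := hmax n ⟨A, inferInstance, f, inferInstance, inferInstance, hf, hd, hn⟩
    haveI : LocallyOfFiniteType π.left := by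
      haveI : LocallyOfFiniteType (π.left ≫ A'.hom) := by rw [Over.w π]; infer_instance
      exact locallyOfFiniteType_of_comp π.left A'.hom
    have hge := DimNoetherLib.dim_le_of_surjective A'.hom π.left hs.surj
    rw [hA', hn] at hge
    have hnd : n = d := le_antisymm hle (by exact_mod_cast hge)
    haveI := hs
    obtain ⟨h1, h2⟩ := Groth.Agent.S19572.result K A A' π (by rw [hn, hA', hnd])
    exact ⟨hs, h1, h2, by rw [hn, hnd]⟩
  obtain ⟨l₀, hl₀⟩ := exists_word_surjective' V v₀ A₀ f₀ hf₀ hd₀
  haveI : LocallyOfFiniteType (word f₀ l₀).left := by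
    haveI : LocallyOfFiniteType ((word f₀ l₀).left ≫ A₀.hom) := by
      rw [Over.w (word f₀ l₀)]
      clear hl₀
      induction l₀ with
      | nil => exact inferInstanceAs (LocallyOfFiniteType (𝟙 (Spec (CommRingCat.of K))))
      | cons b l ih =>
        haveI := ih
        haveI : LocallyOfFiniteType (pullback.fst V.hom (Word V l).hom) :=
          MorphismProperty.pullback_fst _ _ inferInstance
        exact inferInstanceAs (LocallyOfFiniteType (pullback.fst V.hom (Word V l).hom ≫ V.hom))
    exact locallyOfFiniteType_of_comp (word f₀ l₀).left A₀.hom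
  obtain ⟨x₀, hx₀⟩ := hl₀.surj (genericPoint A₀.left)
  haveI : LocallyOfFiniteType ((word f₀ l₀).left.fiberToSpecResidueField (genericPoint A₀.left)) :=
    MorphismProperty.pullback_snd _ _ inferInstance
  haveI : JacobsonSpace ↥((word f₀ l₀).left.fiber (genericPoint A₀.left)) :=
    LocallyOfFiniteType.jacobsonSpace ((word f₀ l₀).left.fiberToSpecResidueField _)
  obtain ⟨q, -, hq⟩ := nonempty_inter_closedPoints
    (Z := (Set.univ : Set ↥((word f₀ l₀).left.fiber (genericPoint A₀.left))))
    ⟨cast (by rw [← hx₀]) ((word f₀ l₀).left.asFiber x₀), trivial⟩ isOpen_univ.isLocallyClosed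
  let z := (word f₀ l₀).left.fiberι _ q
  have hzη : (word f₀ l₀).left z = genericPoint A₀.left :=
    ((word f₀ l₀).left.range_fiberι (genericPoint A₀.left)).le ⟨q, rfl⟩
  have hzfin : ((word f₀ l₀).left.residueFieldMap z).hom.Finite := by
    refine (Groth.Agent.S9332.result (word f₀ l₀).left z).1 ?_
    have key : ∀ (s : A₀.left) (q : (word f₀ l₀).left.fiber s), IsClosed ({q} : Set _) →
        ∀ (z : (Word V l₀).left), (word f₀ l₀).left.fiberι s q = z → s = (word f₀ l₀).left z →
        IsClosed ({(word f₀ l₀).left.asFiber z} : Set _) := by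
      intro s q hq z hz hs
      subst hs
      have : (word f₀ l₀).left.asFiber z = q :=
        ((word f₀ l₀).left.fiberι _).isEmbedding.injective ((Scheme.Hom.fiberι_asFiber _ z).trans hz.symm)
      rw [this]
      exact hq
    exact key _ q hq z rfl hzη.symm
  have hD : 0 < (word f₀ l₀).left.residueDegree z := by
    unfold AlgebraicGeometry.Scheme.Hom.residueDegree
    letI := ((word f₀ l₀).left.residueFieldMap z).hom.toAlgebra
    haveI : Module.Finite (A₀.left.residueField ((word f₀ l₀).left z)) ((Word V l₀).left.residueField z) := hzfin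
    exact Module.finrank_pos
  have hRbd : ∀ m, R m → m ≤ (word f₀ l₀).left.residueDegree z := by
    rintro m ⟨A, gA, hint, f, π, hp, hi, hf, hd, hπ, hfπ, rfl⟩
    letI := gA
    haveI := hp; haveI := hi; haveI := hπ
    obtain ⟨hs, hfin, hflat, -⟩ := hlift A f A₀ π hf hd (hfπ.symm ▸ hd₀) hdim₀
    haveI := hs; haveI := hfin; haveI := hflat
    haveI : IsIntegral A.left := GeometricallyIntegral.isIntegral_of_subsingleton A.hom
    haveI : IsLocallyNoetherian A.left := LocallyOfFiniteType.isLocallyNoetherian A.hom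
    have hw : (word f l₀).left ≫ π.left = (word f₀ l₀).left := by
      rw [← Over.comp_left, word_comp, hfπ]
    have hzA : (word f l₀).left z = genericPoint A.left :=
      (finrank_eq_residueDegree π.left).2 _ (by rw [← Scheme.Hom.comp_apply, hw, hzη])
    have h := CycPushLib.residueDegree_comp (word f l₀).left π.left z
    rw [CycPushLib.residueDegree_congr hw z, hzA] at h
    rw [h]
    refine Nat.le_mul_of_pos_left _ (Nat.pos_of_ne_zero fun h0 => ?_)
    rw [h0, Nat.zero_mul] at h
    omega
  have hRne : ∃ m, R m :=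
    ⟨_, A₀, gA₀, inferInstance, f₀, 𝟙 A₀, hA₀p, hA₀i, hf₀, hd₀, inferInstance, Category.comp_id _, rfl⟩
  obtain ⟨m₀, hm₀⟩ := hRne
  let D := Nat.findGreatest R ((word f₀ l₀).left.residueDegree z)
  obtain ⟨A, gA, hAint, f, π, hAp, hAi, hf, hfd, hπ, hfπ, hdeg⟩ : R D := Nat.findGreatest_spec (hRbd m₀ hm₀) hm₀
  have hRmax : ∀ m, R m → m ≤ D := fun m hm => Nat.le_findGreatest (hRbd m hm) hm
  letI := gA
  haveI := hAp; haveI := hAi; haveI := hπ
  obtain ⟨hπs, hπfin, hπfl, hAdim⟩ := hlift A f A₀ π hf hfd (hfπ.symm ▸ hd₀) hdim₀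
  haveI := hπs; haveI := hπfin; haveI := hπfl
  haveI : IsIntegral A.left := GeometricallyIntegral.isIntegral_of_subsingleton A.hom
  haveI : IsLocallyNoetherian A.left := LocallyOfFiniteType.isLocallyNoetherian A.hom
  refine ⟨A, gA, f, hAp, hAi, hf, fun B _ _ _ g hg => ?_⟩
  haveI : GeometricallyIntegral (A ⊗ B).hom := by
    rw [Over.tensorObj_hom]; exact CubeConsLib.geometricallyIntegral_prod A.hom B.hom
  haveI : IsProper (A ⊗ B).hom := inferInstanceAs (IsProper (pullback.fst A.hom B.hom ≫ A.hom))
  have hfg : v₀ ≫ lift f g = η[A ⊗ B] := by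
    refine hom_ext _ _ ?_ ?_
    · rw [Category.assoc, lift_fst, hf, IsMonHom.one_hom (f := fst A B)]
    · rw [Category.assoc, lift_snd, hg, IsMonHom.one_hom (f := snd A B)]
  obtain ⟨C, gC, i, c, hi, hic, hCp, hCi, hc, hc₀, hcd⟩ := exists_gen' V h0 v₀ (A ⊗ B) (lift f g) hfg
  letI := gC
  haveI := hi; haveI := hCp; haveI := hCi
  let ρ : C ⟶ A := i ≫ fst A B
  haveI : IsMonHom ρ := inferInstance
  have hcρ : c ≫ ρ = f := by rw [reassoc_of% hc, lift_fst]
  obtain ⟨hρs, hρfin, hρfl, hCdim⟩ := hlift C c A ρ hc₀ hcd (hcρ.symm ▸ hfd) hAdim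
  haveI := hρs; haveI := hρfin; haveI := hρfl
  haveI : IsIntegral C.left := GeometricallyIntegral.isIntegral_of_subsingleton C.hom
  haveI : IsLocallyNoetherian C.left := LocallyOfFiniteType.isLocallyNoetherian C.hom
  haveI : IsMonHom (ρ ≫ π) := inferInstance
  have hR : R ((ρ ≫ π).left.residueDegree (genericPoint C.left)) :=
    ⟨C, gC, inferInstance, c, ρ ≫ π, hCp, hCi, hc₀, hcd, inferInstance, by rw [reassoc_of% hcρ, hfπ], rfl⟩
  have hle := hRmax _ hR
  rw [Over.comp_left, CycPushLib.residueDegree_comp, GenFinLib.base_genericPoint (f := ρ.left)] at hle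
  have hdpos : 1 ≤ π.left.residueDegree (genericPoint A.left) := by
    rw [← (finrank_eq_residueDegree π.left).1, ← GenFinLib.base_genericPoint (f := π.left)]
    exact π.left.one_le_finrank_map _
  rw [← hdeg] at hle
  have hρpos : 1 ≤ ρ.left.finrank (genericPoint A.left) := by
    rw [← GenFinLib.base_genericPoint (f := ρ.left)]
    exact ρ.left.one_le_finrank_map _
  rw [← (finrank_eq_residueDegree ρ.left).1] at hle
  have hρ1 : ρ.left.finrank (genericPoint A.left) = 1 := by
    have := Nat.le_of_mul_le_mul_right (a := ρ.left.finrank (genericPoint A.left)) (b := 1) (by simpa using hle) hdpos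
    omega
  haveI : LocallyOfFinitePresentation ρ.left := by
    haveI : LocallyOfFiniteType ρ.left := inferInstance
    exact LocallyOfFinitePresentation.iff_locallyOfFiniteType.2 inferInstance
  haveI : IsIso ρ.left := ρ.left.isIso_iff_finrank_eq.2 (funext fun y => by
    rw [(Scheme.Hom.isLocallyConstant_finrank (f := ρ.left)).apply_eq_of_preconnectedSpace y (genericPoint A.left), hρ1]
    rfl)
  haveI : IsIso ((Over.forget _).map ρ) := ‹IsIso ρ.left›
  haveI : IsIso ρ := isIso_of_reflects_iso ρ (Over.forget _)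
  haveI : IsMonHom (inv ρ) := by
    haveI : IsMonHom (asIso ρ).hom := ‹IsMonHom ρ›
    exact inferInstanceAs (IsMonHom (asIso ρ).inv)
  refine ⟨inv ρ ≫ i ≫ snd A B, ⟨inferInstance, ?_⟩, fun h' ⟨hh', hf'⟩ => ?_⟩
  · rw [← hcρ, Category.assoc, IsIso.hom_inv_id_assoc, reassoc_of% hc, lift_snd]
  · haveI := hh'
    refine eq_of_dense_words V f hfd _ _ ?_
    rw [hf', ← hcρ, Category.assoc, IsIso.hom_inv_id_assoc, reassoc_of% hc, lift_snd]

end AlbExLib

end
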