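import Groth.Agent.AlbExLib.ProperGen

/-!
# The covering abelian variety of a proper connected scheme over an algebraically closed field
-/

set_option autoImplicit false
set_option linter.style.haveILetI false
set_option linter.unusedSectionVars false
set_option backward.isDefEq.respectTransparency false
set_option maxHeartbeats 1600000

universe u

open CategoryTheory CategoryTheory.Limits AlgebraicGeometry TopologicalSpace MonoidalCategory CartesianMonoidalCategory
open Groth.Agent.GenSub (Word word wordSet)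
open scoped MonObj

attribute [-instance] CategoryTheory.Hom.commGroup

noncomputable section

namespace AlbExLib

variable {k : Type u} [Field k] [IsAlgClosed k]

/-- Finitely many abelian varieties are dominated by one. -/
theorem exists_prod_cover {ι₀ : Type*} [Finite ι₀] (J : ι₀ → Over (Spec (CommRingCat.of k))) [∀ i, GrpObj (J i)]
    [∀ i, IsProper (J i).hom] [∀ i, GeometricallyIntegral (J i).hom] :
    ∃ (P : Over (Spec (CommRingCat.of k))) (_ : GrpObj P), IsProper P.hom ∧ GeometricallyIntegral P.hom ∧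
      ∀ (B : Over (Spec (CommRingCat.of k))) [GrpObj B] [IsCommMonObj B] (χ : ∀ i, J i ⟶ B), (∀ i, IsMonHom (χ i)) →
        ∃ (Φ : P ⟶ B) (e : ∀ i, J i ⟶ P), IsMonHom Φ ∧ ∀ i, e i ≫ Φ = χ i := by
  induction ι₀ using Finite.induction_empty_option with
  | of_equiv e ih =>
    obtain ⟨P, gP, hp, hi, hu⟩ := ih (fun i => J (e i))
    refine ⟨P, gP, hp, hi, fun B _ _ χ hχ => ?_⟩
    obtain ⟨Φ, f, hΦ, hf⟩ := hu B (fun i => χ (e i)) fun i => hχ _
    refine ⟨Φ, fun i => eqToHom (congrArg J (e.apply_symm_apply i).symm) ≫ f (e.symm i), hΦ, fun i => ?_⟩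
    rw [Category.assoc, hf]
    exact eqToHom_naturality (fun i => χ i) (e.apply_symm_apply i).symm |>.symm.trans (Category.comp_id _)
  | h_empty =>
    haveI : IsIntegral (𝟙_ (Over (Spec (CommRingCat.of k)))).left := inferInstanceAs (IsIntegral (Spec (CommRingCat.of k)))
    haveI : LocallyOfFiniteType (𝟙_ (Over (Spec (CommRingCat.of k)))).hom :=
      inferInstanceAs (LocallyOfFiniteType (𝟙 (Spec (CommRingCat.of k))))
    exact ⟨𝟙_ _, inferInstance, inferInstanceAs (IsProper (𝟙 (Spec (CommRingCat.of k)))),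
      AlbLib.geometricallyIntegral_of_isIntegral _, fun B _ _ _ _ => ⟨η[B], fun i => i.elim, inferInstance, fun i => i.elim⟩⟩
  | @h_option α₀ _ ih =>
    obtain ⟨P, gP, hp, hi, hu⟩ := ih (fun i => J (some i))
    letI := gP
    haveI := hp; haveI := hi
    haveI : IsIntegral P.left := GeometricallyIntegral.isIntegral_of_subsingleton P.hom
    haveI : IsIntegral (J none).left := GeometricallyIntegral.isIntegral_of_subsingleton (J none).hom
    haveI : IsIntegral (P ⊗ J none).left := AlbLib.isIntegral_tensor P (J none)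
    haveI : IsProper (P ⊗ J none).hom := inferInstanceAs (IsProper (pullback.fst P.hom (J none).hom ≫ P.hom))
    refine ⟨P ⊗ J none, inferInstance, inferInstance, AlbLib.geometricallyIntegral_of_isIntegral _,
      fun B _ _ χ hχ => ?_⟩
    obtain ⟨Φ, f, hΦ, hf⟩ := hu B (fun i => χ (some i)) fun i => hχ _
    haveI := hΦ; haveI := hχ none
    refine ⟨(fst P (J none) ≫ Φ) * (snd P (J none) ≫ χ none), fun i => match i with
      | none => lift 1 (𝟙 _)
      | some i => lift (f i) 1, isMonHom_mul _ _, fun i => ?_⟩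
    rw [MonObj.comp_mul, ← Category.assoc, ← Category.assoc]
    cases i with
    | none => dsimp only; rw [lift_fst, lift_snd, MonObj.one_comp, Category.id_comp, _root_.one_mul]
    | some i => dsimp only; rw [lift_fst, lift_snd, MonObj.one_comp, hf, _root_.mul_one]

/-- **The covering abelian variety of a proper connected scheme.** -/
theorem exists_cover_proper (X : Over (Spec (CommRingCat.of k))) [IsProper X.hom] [ConnectedSpace X.left]
    (x₀ : 𝟙_ (Over (Spec (CommRingCat.of k))) ⟶ X) :
    ∃ (J : Over (Spec (CommRingCat.of k))) (_ : GrpObj J), IsProper J.hom ∧ GeometricallyIntegral J.hom ∧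
      ∀ (B : Over (Spec (CommRingCat.of k))) [GrpObj B] [IsProper B.hom] [GeometricallyIntegral B.hom] (g : X ⟶ B),
        x₀ ≫ g = η[B] → Dense (wordSet g) → ∃ χ : J ⟶ B, IsMonHom χ ∧ Function.Surjective χ.left.base := by
  classical
  haveI : IsLocallyNoetherian X.left := LocallyOfFiniteType.isLocallyNoetherian X.hom
  haveI : CompactSpace X.left := QuasiCompact.compactSpace_of_compactSpace X.hom
  haveI : IsNoetherian X.left := ⟨⟩
  haveI : Finite ↥(genPts (Set.univ : Set X.left)) := (finite_genPts isClosed_univ).to_subtype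
  have hcomp : ∀ z : genPts (Set.univ : Set X.left),
      ∃ (Vc : Over (Spec (CommRingCat.of k))) (a : Vc ⟶ X) (c : 𝟙_ (Over (Spec (CommRingCat.of k))) ⟶ Vc),
        Smooth Vc.hom ∧ IsSeparated Vc.hom ∧ QuasiCompact Vc.hom ∧ IsIntegral Vc.left ∧
        (z : X.left) ∈ closure (Set.range a.left.base) := by
    intro z
    obtain ⟨Z, i, hi, hZi, hr⟩ := DevissLib.exists_integral_closed (isClosed_closure (s := ({(z : X.left)} : Set X.left)))
      isIrreducible_singleton.closure
    haveI := hi; haveI := hZi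
    letI : Z.Over (Spec (CommRingCat.of k)) := ⟨i ≫ X.hom⟩
    haveI : LocallyOfFiniteType (i ≫ X.hom) := inferInstance
    haveI : LocallyOfFinitePresentation (i ≫ X.hom) := by
      haveI : IsLocallyNoetherian Z := LocallyOfFiniteType.isLocallyNoetherian (i ≫ X.hom)
      exact LocallyOfFinitePresentation.iff_locallyOfFiniteType.2 inferInstance
    haveI : LocallyOfFinitePresentation (Z ↘ Spec (CommRingCat.of k)) :=
      inferInstanceAs (LocallyOfFinitePresentation (i ≫ X.hom))
    let O : Z.Opens := (i ≫ X.hom).smoothLocus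
    have hd : Dense (O : Set Z) := (Groth.Agent.S1561.result k Z).2
    let Vc : Over (Spec (CommRingCat.of k)) := Over.mk (O.ι ≫ i ≫ X.hom)
    haveI : Nonempty O.toScheme := by
      obtain ⟨x, hx⟩ := hd.nonempty
      exact ⟨⟨x, hx⟩⟩
    haveI : Nonempty Vc.left := ‹Nonempty O.toScheme›
    haveI : IsIntegral Vc.left := isIntegral_of_isOpenImmersion O.ι
    haveI : LocallyOfFiniteType Vc.hom := inferInstanceAs (LocallyOfFiniteType (O.ι ≫ i ≫ X.hom))
    obtain ⟨c⟩ := SquareLib.exists_point Vc
    haveI : IsLocallyNoetherian Z := LocallyOfFiniteType.isLocallyNoetherian (i ≫ X.hom)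
    haveI : CompactSpace Z := QuasiCompact.compactSpace_of_compactSpace (i ≫ X.hom)
    haveI : IsNoetherian Z := ⟨⟩
    refine ⟨Vc, Over.homMk (O.ι ≫ i) (Category.assoc _ _ _), c, ?_,
      inferInstanceAs (IsSeparated (O.ι ≫ i ≫ X.hom)), inferInstanceAs (QuasiCompact (O.ι ≫ i ≫ X.hom)),
      inferInstance, ?_⟩
    · show Smooth (O.ι ≫ i ≫ X.hom)
      rw [← Scheme.Hom.smoothLocus_eq_top_iff, ← Scheme.Hom.preimage_smoothLocus_eq, Scheme.Opens.ι_preimage_self]
    · obtain ⟨y, hy⟩ : (z : X.left) ∈ Set.range i := by rw [hr]; exact subset_closure rfl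
      rw [← hy]
      refine closure_mono ?_ (image_closure_subset_closure_image i.continuous ⟨y, hd y, rfl⟩)
      rintro _ ⟨x, hx, rfl⟩
      exact ⟨⟨x, hx⟩, rfl⟩
  choose Vc a c hsm hsep hqc hint hcl using hcomp
  haveI := hsm; haveI := hsep; haveI := hqc; haveI := hint
  have hcov := fun z => exists_cover (Vc z) (c z)
  choose J gJ hJp hJi hu using hcov
  letI := gJ
  haveI := hJp; haveI := hJi
  obtain ⟨P, gP, hPp, hPi, hprod⟩ := exists_prod_cover J
  letI := gP
  haveI := hPp; haveI := hPi
  refine ⟨P, gP, hPp, hPi, fun B _ _ _ g hg hd => ?_⟩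
  haveI : IsCommMonObj B := CubeConsLib.isCommMonObj_field
  haveI : ∀ z, GeometricallyIntegral (Vc z).hom := fun z => AlbLib.geometricallyIntegral_of_isIntegral _
  have hg' : ∀ z, c z ≫ (a z ≫ g * (toUnit (Vc z) ≫ c z ≫ a z ≫ g)⁻¹) = η[B] := fun z => by
    rw [MonObj.comp_mul, GrpObj.comp_inv, ← Category.assoc (c z) (toUnit (Vc z)),
      show c z ≫ toUnit (Vc z) = 𝟙 _ from Subsingleton.elim _ _, Category.id_comp, mul_inv_cancel, Hom.one_def]
    simp
  choose C gC iC gC' hiC hiCc hCp hCi hgC hgC0 hgCd using fun z =>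
    exists_gen (Vc z) (c z) B (a z ≫ g * (toUnit (Vc z) ≫ c z ≫ a z ≫ g)⁻¹) (hg' z)
  letI := gC
  haveI := hiC; haveI := hCp; haveI := hCi
  choose χ hχ hχs using fun z => hu z (C z) (gC' z) (hgC0 z) (hgCd z)
  haveI := hχ
  obtain ⟨Φ, e, hΦ, hΦe⟩ := hprod B (fun z => χ z ≫ iC z) fun z => inferInstance
  haveI := hΦ
  refine ⟨Φ, hΦ, ?_⟩
  haveI : QuasiCompact Φ.left := by
    haveI : QuasiCompact (Φ.left ≫ B.hom) := by rw [Over.w Φ]; infer_instance
    exact QuasiCompact.of_comp Φ.left B.hom
  obtain ⟨H, gH, p, iH, hp, hiH, hpi, hpf, hps, hpl, hclH⟩ :=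
    Groth.Agent.GrpHom.exists_fppf_image Φ (Groth.Agent.GrpField.flat_field _)
  letI := gH
  haveI := hiH; haveI := hclH; haveI := hps
  suffices hsurj : Function.Surjective iH.left.base by
    rw [← hpi]
    exact hsurj.comp p.left.surjective
  obtain ⟨Q, gQ, q, hQp, hQi, hq, hqs, hk⟩ := AVThetaLib.exists_quotient_kernel B iH
  letI := gQ
  haveI := hQp; haveI := hQi; haveI := hq
  have hker : iH ≫ q = 1 := hk.w.trans Hom.one_def.symm
  let h : X ⟶ Q := g ≫ q
  let v : genPts (Set.univ : Set X.left) → Q.left := fun z => (c z ≫ a z ≫ h).left (IsLocalRing.closedPoint k)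
  have hval : ∀ (z : ↥(genPts (Set.univ : Set X.left))) (x : X.left), (z : X.left) ⤳ x → h.left x = v z := by
    intro z x hx
    have hsub : closure (Set.range (a z).left.base) ⊆ h.left ⁻¹' {v z} := by
      refine closure_minimal ?_ ((AlbLib.isClosed_pt _ _).preimage h.left.continuous)
      rintro _ ⟨w, rfl⟩
      haveI : JacobsonSpace (Vc z).left := LocallyOfFiniteType.jacobsonSpace (Vc z).hom
      have hclosed : IsClosed (((a z).left ≫ h.left).base ⁻¹' {v z}) :=
        (AlbLib.isClosed_pt _ _).preimage (Scheme.Hom.continuous _)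
      refine (closure_minimal ?_ hclosed) ((closure_closedPoints (X := (Vc z).left)).symm ▸ Set.mem_univ w)
      intro x' hx'
      let s := AlbLib.ratPt (Vc z) x' hx'
      have hsval : s ≫ a z ≫ h = c z ≫ a z ≫ h := by
        haveI : JacobsonSpace (J z).left := LocallyOfFiniteType.jacobsonSpace (J z).hom
        have hcp : IsClosed ({(s ≫ gC' z).left (IsLocalRing.closedPoint k)} : Set (C z).left) := AlbLib.isClosed_pt _ _
        obtain ⟨y, hy⟩ := hχs z ((s ≫ gC' z).left (IsLocalRing.closedPoint k))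
        obtain ⟨y', hy', hyc⟩ := nonempty_inter_closedPoints
          (Z := (χ z).left.base ⁻¹' {(s ≫ gC' z).left (IsLocalRing.closedPoint k)}) ⟨y, hy⟩
          (hcp.preimage (Scheme.Hom.continuous _)).isLocallyClosed
        have hs : AlbLib.ratPt (J z) y' hyc ≫ χ z = s ≫ gC' z := by
          refine AlbLib.ratPt_ext _ _ ?_
          rw [Over.comp_left, Scheme.Hom.comp_apply, AlbLib.ratPt_apply]
          exact hy'
        have h1 : s ≫ (a z ≫ g * (toUnit (Vc z) ≫ c z ≫ a z ≫ g)⁻¹) ≫ q = 1 := by
          rw [← hgC, Category.assoc (gC' z), ← Category.assoc s, ← hs, Category.assoc, ← Category.assoc (χ z), ← hΦe,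
            ← hpi, Category.assoc (e z), Category.assoc p, hker, MonObj.comp_one, MonObj.comp_one, MonObj.comp_one]
        rw [MonObj.mul_comp, GrpObj.inv_comp, MonObj.comp_mul, GrpObj.comp_inv, mul_inv_eq_one] at h1
        simp only [Category.assoc] at h1
        show s ≫ a z ≫ g ≫ q = c z ≫ a z ≫ g ≫ q
        rw [h1, ← Category.assoc s, show s ≫ toUnit (Vc z) = 𝟙 _ from Subsingleton.elim _ _, Category.id_comp]
      show h.left ((a z).left x') = v z
      have h2 := congrArg (fun w => w.left (IsLocalRing.closedPoint k)) hsval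
      simp only [Over.comp_left, Scheme.Hom.comp_apply] at h2
      rw [AlbLib.ratPt_apply] at h2
      exact h2
    exact hsub (closure_minimal (Set.singleton_subset_iff.2 (hcl z)) isClosed_closure hx.mem_closure)
  -- connectedness makes it constant
  let e₀ : Q.left := h.left (x₀.left (IsLocalRing.closedPoint k))
  have hconst : ∀ x : X.left, h.left x = e₀ := by
    have hcl0 : IsClosed (h.left ⁻¹' {e₀}) := by
      have he₀ : IsClosed ({e₀} : Set Q.left) := by
        have := AlbLib.isClosed_pt (x₀ ≫ h) (IsLocalRing.closedPoint k)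
        rwa [Over.comp_left, Scheme.Hom.comp_apply] at this
      exact he₀.preimage h.left.continuous
    have hop : IsClosed (h.left ⁻¹' {e₀})ᶜ := by
      have : (h.left ⁻¹' {e₀})ᶜ = h.left ⁻¹' (Set.range v \ {e₀}) := by
        ext x
        obtain ⟨z, hz, hzx⟩ := exists_genPt isClosed_univ (Set.mem_univ x)
        simp only [Set.mem_compl_iff, Set.mem_preimage, Set.mem_singleton_iff, Set.mem_sdiff, Set.mem_range]
        exact ⟨fun hne => ⟨⟨⟨z, hz⟩, (hval ⟨z, hz⟩ x hzx).symm⟩, hne⟩, fun h' => h'.2⟩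
      rw [this, ← Set.biUnion_of_singleton (Set.range v \ {e₀}), Set.preimage_iUnion₂]
      refine ((Set.finite_range v).sdiff).isClosed_biUnion fun y hy => ?_
      obtain ⟨z, rfl⟩ := hy.1
      exact (AlbLib.isClosed_pt _ _).preimage h.left.continuous
    have huniv := IsClopen.eq_univ ⟨hcl0, isClosed_compl_iff.1 hop⟩ ⟨_, (rfl : h.left _ = e₀)⟩
    exact fun x => huniv.ge (Set.mem_univ x)
  have hrange : Set.range g.left.base ⊆ Set.range iH.left.base := by
    rintro _ ⟨x, rfl⟩
    have hsq := hk.map (Over.forget _)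
    have he : q.left (g.left x) = (η[Q]).left (IsLocalRing.closedPoint k) := by
      rw [← Scheme.Hom.comp_apply, ← Over.comp_left]
      show h.left x = _
      rw [hconst x]
      show h.left (x₀.left _) = _
      have h3 : x₀ ≫ h = η[Q] := by
        show x₀ ≫ g ≫ q = η[Q]
        rw [← Category.assoc, hg, IsMonHom.one_hom]
      rw [← Scheme.Hom.comp_apply, ← Over.comp_left, h3]
    obtain ⟨y, hy, -⟩ := Scheme.exists_preimage_of_isPullback hsq (g.left x) (IsLocalRing.closedPoint k) he
    exact ⟨y, hy⟩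
  -- the reduced scheme factors through the image
  let I := Scheme.IdealSheafData.vanishingIdeal (X := X.left) ⊤
  haveI : AlgebraicGeometry.IsReduced I.subscheme := GeomRedFieldLib.isReduced_vanishing _
  let X' : Over (Spec (CommRingCat.of k)) := Over.mk (I.subschemeι ≫ X.hom)
  haveI : AlgebraicGeometry.IsReduced X'.left := inferInstanceAs (AlgebraicGeometry.IsReduced I.subscheme)
  let u : X' ⟶ X := Over.homMk I.subschemeι rfl
  haveI : Surjective u.left := ⟨fun x => by
    have hx : x ∈ (I.support : Set X.left) := by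
      rw [Scheme.IdealSheafData.coe_support_vanishingIdeal]; trivial
    exact (Scheme.IdealSheafData.range_subschemeι I).ge hx⟩
  obtain ⟨g₁, hg₁⟩ := Groth.Agent.DensePts.factors_of_range (u ≫ g) iH (by
    rintro _ ⟨x, rfl⟩
    exact hrange ⟨u.left x, rfl⟩)
  intro b
  refine closure_minimal (Set.iUnion_subset fun l => ?_) iH.left.isClosedEmbedding.isClosed_range (hd b)
  rw [← range_word_comp u g l.down]
  obtain ⟨w, hw⟩ := Groth.Agent.GenSub.word_factors (u ≫ g) iH g₁ hg₁ l.down
  rintro _ ⟨x, rfl⟩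
  exact ⟨w.left.base x, congr($(hw).left.base x)⟩

end AlbExLib

end
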