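import Groth.Agent.AlbExLib.Max
import Groth.Agent.GrpdFieldLib.ClosedSub
import Groth.Agent.GeomRedFieldLib.Stratify
import Groth.Agent.S12017
import Groth.Agent.S2431
import Groth.Agent.S4624

/-!
# The abelian subvariety generated by a proper scheme without nonconstant functions
-/

set_option autoImplicit false
set_option linter.style.haveILetI false
set_option linter.unusedSectionVars false
set_option backward.isDefEq.respectTransparency false
set_option maxHeartbeats 1600000

universe u

open CategoryTheory CategoryTheory.Limits AlgebraicGeometry TopologicalSpace MonoidalCategory CartesianMonoidalCategory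
open Groth.Agent.GenSub (Word word wordSet)
open scoped MonObj

attribute [-instance] CategoryTheory.Hom.commGroup

noncomputable section

namespace AlbExLib

variable {k : Type u} [Field k]

/-- A proper scheme with only constant functions is geometrically connected. -/
theorem geometricallyConnected_of_h0' (X : Over (Spec (CommRingCat.of k))) [IsProper X.hom]
    (h0 : Function.Bijective (X.hom.appTop).hom) : GeometricallyConnected X.hom := by
  refine (Groth.Agent.S2431.result X.hom fun U => ?_).2
  rcases (U : Set ↥(Spec (CommRingCat.of k))).eq_empty_or_nonempty with hU | ⟨x, hx⟩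
  · obtain rfl : U = ⊥ := Opens.ext hU
    have h1 : Subsingleton Γ(Spec (CommRingCat.of k), ⊥) := inferInstance
    have h2 : Subsingleton Γ(X.left, X.hom ⁻¹ᵁ (⊥ : (Spec (CommRingCat.of k)).Opens)) := by
      rw [Scheme.Hom.preimage_bot]; infer_instance
    exact (ConcreteCategory.isIso_iff_bijective _).2
      ⟨fun a b _ => Subsingleton.elim a b, fun b => ⟨0, h2.elim _ _⟩⟩
  · obtain rfl : U = ⊤ := eq_top_iff.2 fun y _ => by
      rw [Subsingleton.elim (α := PrimeSpectrum k) y x]; exact hx
    exact (ConcreteCategory.isIso_iff_bijective _).2 h0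

/-- A morphism to an affine scheme from a scheme with only constant functions is constant. -/
theorem const_of_affine {X U : Scheme.{u}} [IsAffine U] (p : X ⟶ Spec (CommRingCat.of k))
    (h0 : Function.Bijective (p.appTop).hom) (φ : X ⟶ U) : ∃ s : Spec (CommRingCat.of k) ⟶ U, φ = p ≫ s := by
  haveI : IsIso p.appTop := (ConcreteCategory.isIso_iff_bijective _).2 h0
  refine ⟨(Spec (CommRingCat.of k)).toSpecΓ ≫ Spec.map (φ.appTop ≫ inv p.appTop) ≫ U.isoSpec.inv,
    ?_⟩
  rw [← cancel_mono U.isoSpec.hom]
  simp only [Category.assoc, Iso.inv_hom_id, Category.comp_id]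
  rw [Scheme.isoSpec_hom, Scheme.toSpecΓ_naturality, Scheme.toSpecΓ_naturality_assoc, ← Spec.map_comp, Category.assoc,
    IsIso.inv_hom_id, Category.comp_id]

/-- Set-theoretic factorisation through an abelian subvariety is scheme-theoretic. -/
theorem factors_of_range_subset (X : Over (Spec (CommRingCat.of k))) [IsProper X.hom]
    (h0 : Function.Bijective (X.hom.appTop).hom) (x₀ : 𝟙_ (Over (Spec (CommRingCat.of k))) ⟶ X)
    {B C : Over (Spec (CommRingCat.of k))} [GrpObj B] [IsProper B.hom] [GeometricallyIntegral B.hom] [GrpObj C]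
    (i : C ⟶ B) [IsMonHom i] [IsClosedImmersion i.left] (g : X ⟶ B) (hg : x₀ ≫ g = η[B])
    (hr : Set.range g.left.base ⊆ Set.range i.left.base) : ∃ g' : X ⟶ C, g' ≫ i = g := by
  haveI : IsCommMonObj B := CubeConsLib.isCommMonObj_field
  obtain ⟨Q, gQ, q, hQp, hQi, hq, hqs, hk⟩ := AVThetaLib.exists_quotient_kernel B i
  letI := gQ
  haveI := hQp; haveI := hQi; haveI := hq
  let e : Q.left := (η[Q] : 𝟙_ (Over (Spec (CommRingCat.of k))) ⟶ Q).left (IsLocalRing.closedPoint k)
  obtain ⟨U, hU, heU, -⟩ := exists_isAffineOpen_mem_and_subset (X := Q.left) (x := e) (U := ⊤) trivial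
  haveI : IsAffine U.toScheme := hU
  have hval : ∀ x : X.left, (g ≫ q).left x = e := fun x => by
    obtain ⟨c, hc⟩ := hr ⟨x, rfl⟩
    rw [Over.comp_left, Scheme.Hom.comp_apply, ← hc, ← Scheme.Hom.comp_apply, ← Over.comp_left, hk.w,
      Over.comp_left, Scheme.Hom.comp_apply]
    exact congrArg (η[Q]).left (Subsingleton.elim (α := PrimeSpectrum k) _ _)
  let φ : X.left ⟶ U.toScheme := IsOpenImmersion.lift U.ι (g ≫ q).left (by
    rintro _ ⟨x, rfl⟩
    refine U.range_ι.ge ?_
    rw [hval x]
    exact heU)
  have hφ : φ ≫ U.ι = (g ≫ q).left := IsOpenImmersion.lift_fac _ _ _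
  obtain ⟨s, hs⟩ := const_of_affine X.hom h0 φ
  have hgq : (g ≫ q).left = X.hom ≫ (s ≫ U.ι) := by rw [← hφ, hs, Category.assoc]
  have hs' : s ≫ U.ι = (η[Q] : 𝟙_ (Over (Spec (CommRingCat.of k))) ⟶ Q).left := by
    have h1 := congrArg (fun a => x₀.left ≫ a) hgq
    simp only [← Category.assoc, Over.w x₀] at h1
    rw [← Over.comp_left, ← Category.assoc x₀ g, hg, IsMonHom.one_hom] at h1
    rw [h1]
    exact (Category.id_comp _).symm
  refine ⟨hk.lift g (toUnit X) (Over.OverMorphism.ext ?_), hk.lift_fst _ _ _⟩
  rw [hgq, hs']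
  rfl

/-- Words only see the image of a surjection. -/
theorem range_word_comp {X X' G : Over (Spec (CommRingCat.of k))} [GrpObj G] (u : X' ⟶ X) [Surjective u.left]
    (g : X ⟶ G) : ∀ l : List Bool, Set.range (word (u ≫ g) l).left.base = Set.range (word g l).left.base := by
  have key : ∀ l : List Bool, ∃ m : Word X' l ⟶ Word X l, Surjective m.left ∧ m ≫ word g l = word (u ≫ g) l := by
    intro l
    induction l with
    | nil =>
      exact ⟨𝟙 _, by rw [Over.id_left]; infer_instance, Category.id_comp _⟩
    | cons b l ih =>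
      obtain ⟨m, hm, hmw⟩ := ih
      haveI := hm
      refine ⟨u ⊗ₘ m, ?_, ?_⟩
      · haveI h1 : Surjective (u ▷ Word X' l).left :=
          MorphismProperty.of_isPullback (Groth.Agent.GenSub.isPullback_whiskerRight_left (Y := Word X' l) u).flip
            ‹Surjective u.left›
        haveI h2 : Surjective (X ◁ m).left :=
          MorphismProperty.of_isPullback (Groth.Agent.FinHom.isPullback_whiskerLeft X m).flip ‹Surjective m.left›
        rw [MonoidalCategory.tensorHom_def, Over.comp_left]
        infer_instance
      · show (u ⊗ₘ m) ≫ ((fst X (Word X l) ≫ Groth.Agent.GenSub.letter g b) * (snd X (Word X l) ≫ word g l)) =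
          (fst X' (Word X' l) ≫ Groth.Agent.GenSub.letter (u ≫ g) b) * (snd X' (Word X' l) ≫ word (u ≫ g) l)
        rw [MonObj.comp_mul, tensorHom_fst_assoc, tensorHom_snd_assoc, hmw]
        cases b
        · show (fst X' (Word X' l) ≫ (u ≫ g⁻¹)) * _ = (fst X' (Word X' l) ≫ (u ≫ g)⁻¹) * _
          rw [GrpObj.comp_inv]
        · rfl
  intro l
  obtain ⟨m, hm, hmw⟩ := key l
  rw [← hmw, Over.comp_left, Scheme.Hom.comp_base, TopCat.coe_comp, Set.range_comp, m.left.surjective.range_eq,
    Set.image_univ]

/-- A pointed morphism from a proper scheme without nonconstant functions generates an abelian subvariety. -/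
theorem exists_gen' (X : Over (Spec (CommRingCat.of k))) [IsProper X.hom]
    (h0 : Function.Bijective (X.hom.appTop).hom) (x₀ : 𝟙_ (Over (Spec (CommRingCat.of k))) ⟶ X)
    (B : Over (Spec (CommRingCat.of k))) [GrpObj B] [IsProper B.hom] [GeometricallyIntegral B.hom]
    (g : X ⟶ B) (hg : x₀ ≫ g = η[B]) :
    ∃ (C : Over (Spec (CommRingCat.of k))) (_ : GrpObj C) (i : C ⟶ B) (g' : X ⟶ C), IsMonHom i ∧
      IsClosedImmersion i.left ∧ IsProper C.hom ∧ GeometricallyIntegral C.hom ∧ g' ≫ i = g ∧ x₀ ≫ g' = η[C] ∧
      Dense (wordSet g') := by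
  haveI : GeometricallyConnected X.hom := geometricallyConnected_of_h0' X h0
  let L := perfectClosure k (AlgebraicClosure k)
  let σ := Spec.map (CommRingCat.ofHom (algebraMap k L))
  let F := Over.pullback σ
  haveI : IsProper (F.obj B).hom := MorphismProperty.pullback_snd B.hom σ inferInstance
  haveI : GeometricallyIntegral (F.obj B).hom := MorphismProperty.pullback_snd B.hom σ inferInstance
  haveI : IsProper (F.obj X).hom := MorphismProperty.pullback_snd X.hom σ inferInstance
  haveI : GeometricallyConnected (F.obj X).hom := MorphismProperty.pullback_snd X.hom σ inferInstance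
  -- the reduced scheme over the perfect closure
  let I := Scheme.IdealSheafData.vanishingIdeal (X := (F.obj X).left) ⊤
  haveI : AlgebraicGeometry.IsReduced I.subscheme := GeomRedFieldLib.isReduced_vanishing _
  let X' : Over (Spec (CommRingCat.of L)) := Over.mk (I.subschemeι ≫ (F.obj X).hom)
  let u : X' ⟶ F.obj X := Over.homMk I.subschemeι rfl
  haveI : Surjective u.left := ⟨fun x => by
    have hx : x ∈ (I.support : Set (F.obj X).left) := by
      rw [Scheme.IdealSheafData.coe_support_vanishingIdeal]; trivial
    exact (Scheme.IdealSheafData.range_subschemeι I).ge hx⟩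
  haveI : IsClosedImmersion u.left := inferInstanceAs (IsClosedImmersion I.subschemeι)
  haveI : IsProper X'.hom := inferInstanceAs (IsProper (I.subschemeι ≫ (F.obj X).hom))
  haveI : AlgebraicGeometry.IsReduced X'.left := inferInstanceAs (AlgebraicGeometry.IsReduced I.subscheme)
  haveI : GeometricallyReduced X'.hom := GrpdFieldLib.geometricallyReduced_of_perfect X'.hom
  haveI : Subsingleton ↥(Spec (CommRingCat.of L)) := inferInstanceAs (Subsingleton (PrimeSpectrum L))
  let y₀ : 𝟙_ (Over (Spec (CommRingCat.of L))) ⟶ F.obj X := Functor.LaxMonoidal.ε F ≫ F.map x₀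
  have hy₀ : y₀ ≫ F.map g = 1 := by
    rw [Category.assoc, ← F.map_comp, hg, Hom.one_def]
    have : toUnit (𝟙_ (Over (Spec (CommRingCat.of L)))) = 𝟙 _ := Subsingleton.elim _ _
    rw [this, Category.id_comp]
    rfl
  obtain ⟨y₁, hy₁⟩ : ∃ y : 𝟙_ (Over (Spec (CommRingCat.of L))) ⟶ X', y ≫ u = y₀ := by
    haveI : AlgebraicGeometry.IsReduced (𝟙_ (Over (Spec (CommRingCat.of L)))).left :=
      inferInstanceAs (AlgebraicGeometry.IsReduced (Spec (CommRingCat.of L)))
    refine Groth.Agent.DensePts.factors_of_range _ u ?_
    rw [u.left.surjective.range_eq]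
    exact Set.subset_univ _
  haveI : ConnectedSpace X'.left := by
    haveI : ConnectedSpace (F.obj X).left :=
      GeometricallyConnected.connectedSpace_of_subsingleton (f := (F.obj X).hom)
    have hu : IsHomeomorph u.left.base :=
      isHomeomorph_iff_isEmbedding_surjective.2 ⟨u.left.isClosedEmbedding.isEmbedding, u.left.surjective⟩
    exact hu.homeomorph.connectedSpace_iff.2 inferInstance
  haveI : Nonempty ↥(Spec (CommRingCat.of L)) := inferInstanceAs (Nonempty (PrimeSpectrum L))
  haveI : Nonempty ↥(𝟙_ (Over (Spec (CommRingCat.of L)))).left := inferInstanceAs (Nonempty (PrimeSpectrum L))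
  haveI : GeometricallyConnected (𝟙 (Spec (CommRingCat.of L))) := Groth.Agent.GenSub.gc_unit
  haveI : GeometricallyConnected X'.hom :=
    SweepSix.GeomConn.gc_of_source X'.hom y₁.left (𝟙 (Spec (CommRingCat.of L))) (Over.w y₁)
  obtain ⟨C', gC', i', hi', hic', hred', hgr', hr', -, -⟩ := Groth.Agent.GenSub.exists_generated (u ≫ F.map g)
  letI := gC'
  haveI := hi'; haveI := hic'; haveI := hgr'
  haveI : IsProper C'.hom := by rw [← Over.w i']; infer_instance
  haveI : ConnectedSpace C'.left := by
    have hc := (Groth.Agent.GenSub.isConnected_wordSet (u ≫ F.map g) y₁ (by rw [← Category.assoc, hy₁, hy₀])).closure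
    rw [← hr', ← Set.image_univ] at hc
    exact connectedSpace_iff_univ.2
      ⟨Set.image_nonempty.1 hc.1, i'.left.isClosedEmbedding.isInducing.isPreconnected_image.1 hc.2⟩
  haveI : GeometricallyIntegral C'.hom := AlbLib.geometricallyIntegral_of_reduced_connected C'
  obtain ⟨C, gC, i, hCp, hCi, hi, hic, e, he⟩ := Groth.Agent.S12017.result k L
    (fun x hx => IsPurelyInseparable.inseparable' x hx) B C' i'
  letI := gC
  haveI := hCp; haveI := hCi; haveI := hi; haveI := hic
  -- the image is the closure of the words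
  let pr : (F.obj B).left ⟶ B.left := pullback.fst B.hom σ
  haveI : UniversallyOpen pr := MorphismProperty.pullback_fst B.hom σ inferInstance
  haveI : Surjective σ := ⟨fun z => ⟨IsLocalRing.closedPoint L, Subsingleton.elim (α := PrimeSpectrum k) _ _⟩⟩
  haveI : Surjective pr := MorphismProperty.pullback_fst B.hom σ inferInstance
  have hws : wordSet (u ≫ F.map g) = pr ⁻¹' wordSet g := by
    ext y
    simp only [wordSet, Set.mem_iUnion, Set.mem_preimage]
    refine exists_congr fun l => ?_
    rw [range_word_comp u (F.map g) l.down]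
    constructor
    · rintro ⟨x, rfl⟩
      obtain ⟨⟨e, he⟩, -⟩ := Groth.Agent.GenSub.exists_word_bc σ g l.down
      refine ⟨pullback.fst (Word X l.down).hom σ (e.left x), ?_⟩
      have h2 : (F.map (word g l.down)).left ≫ pr = pullback.fst (Word X l.down).hom σ ≫ (word g l.down).left := by
        simp [F, pr, Over.pullback_map_left]
      rw [← Scheme.Hom.comp_apply, ← h2, Scheme.Hom.comp_apply]
      exact congrArg pr (congrArg (fun a => a.left x) he)
    · intro hy
      obtain ⟨x, hx⟩ := Groth.Agent.GenSub.mem_range_bc σ _ y hy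
      obtain ⟨-, p, hp⟩ := Groth.Agent.GenSub.exists_word_bc σ g l.down
      exact ⟨p.left.base x, (congr($(hp).left.base x)).trans hx⟩
  have hri : Set.range i.left.base = closure (wordSet g) := by
    have h1 : Set.range (F.map i).left.base = pr ⁻¹' closure (wordSet g) := by
      have h3 : Set.range (F.map i).left.base = Set.range i'.left.base := by
        have h4 : (F.map i).left = e.hom.left ≫ i'.left := congrArg CommaMorphism.left he.symm
        rw [h4, Scheme.Hom.comp_base, TopCat.coe_comp, Set.range_comp]
        haveI : IsIso e.hom.left := ((Over.forget _).mapIso e).isIso_hom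
        rw [Set.range_eq_univ.2 e.hom.left.surjective, Set.image_univ]
      rw [h3, hr', hws, pr.isOpenMap.preimage_closure_eq_closure_preimage pr.continuous]
    have h2 : Set.range (F.map i).left.base = pr ⁻¹' Set.range i.left.base := by
      ext y
      constructor
      · rintro ⟨x, rfl⟩
        refine ⟨pullback.fst C.hom σ x, ?_⟩
        have h2 : (F.map i).left ≫ pr = pullback.fst C.hom σ ≫ i.left := by
          simp [F, pr, Over.pullback_map_left]
        rw [← Scheme.Hom.comp_apply, ← h2, Scheme.Hom.comp_apply]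
        rfl
      · exact Groth.Agent.GenSub.mem_range_bc σ i y
    exact Set.preimage_injective.2 pr.surjective (h2.symm.trans h1)
  obtain ⟨g', hg'⟩ := factors_of_range_subset X h0 x₀ i g hg (by
    obtain ⟨s, hs⟩ := Groth.Agent.GenSub.exists_eq_word g true
    rw [hri]
    refine Set.Subset.trans ?_ subset_closure
    rintro _ ⟨x, rfl⟩
    exact Groth.Agent.GenSub.range_subset_wordSet g [true] s ⟨x, congr($(hs).left.base x)⟩)
  haveI : Mono i := Over.mono_of_mono_left i
  refine ⟨C, gC, i, g', hi, hic, hCp, hCi, hg', ?_, ?_⟩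
  · rw [← cancel_mono i, Category.assoc, hg', hg, IsMonHom.one_hom]
  · intro x
    rw [i.left.isClosedEmbedding.isInducing.closure_eq_preimage_closure_image, Set.mem_preimage]
    have hx : i.left.base x ∈ closure (wordSet g) := hri ▸ ⟨x, rfl⟩
    refine closure_mono ?_ hx
    intro y hy
    obtain ⟨l, w, rfl⟩ := Set.mem_iUnion.1 hy
    refine ⟨(word g' l.down).left.base w, Set.mem_iUnion.2 ⟨l, w, rfl⟩, ?_⟩
    have h := word_comp g' i l.down
    rw [hg'] at h
    exact congr($(h).left.base w)

end AlbExLib

end
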